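import Cfsg.Prelude.Def_SylowChains
import Mathlib.Algebra.Group.Subgroup.Pointwise
import Mathlib.GroupTheory.Index

/-! Chains of Sylow subgroups linked through a family of subgroups. -/

namespace CfsgLib.SylowControl

variable {G : Type*} [Group G]

theorem mem_conjRightSub {g y : G} {X : Subgroup G} :
    y ∈ Cfsg.subgroupConjRight g X ↔ g * y * g⁻¹ ∈ X := by
  simp only [Cfsg.subgroupConjRight, Subgroup.mem_map, MulEquiv.coe_toMonoidHom, MulAut.conj_apply,
    inv_inv]
  constructor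
  · rintro ⟨a, ha, rfl⟩; simpa [mul_assoc] using ha
  · intro h; exact ⟨_, h, by group⟩

theorem conjRightSub_one (X : Subgroup G) : Cfsg.subgroupConjRight 1 X = X := by
  ext y; simp [mem_conjRightSub]

theorem conjRightSub_mul (g h : G) (X : Subgroup G) :
    Cfsg.subgroupConjRight h (Cfsg.subgroupConjRight g X) = Cfsg.subgroupConjRight (g * h) X := by
  ext y; simp [mem_conjRightSub, mul_assoc]

theorem conjRightSub_mono {X Y : Subgroup G} (g : G) (h : X ≤ Y) :
    Cfsg.subgroupConjRight g X ≤ Cfsg.subgroupConjRight g Y := Subgroup.map_mono h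

theorem conjRightSub_inf (g : G) (X Y : Subgroup G) :
    Cfsg.subgroupConjRight g (X ⊓ Y) = Cfsg.subgroupConjRight g X ⊓ Cfsg.subgroupConjRight g Y := by
  ext y; simp [mem_conjRightSub]

theorem conjRightSub_of_mem {X : Subgroup G} {x : G} (hx : x ∈ X) : Cfsg.subgroupConjRight x X = X := by
  ext y
  rw [mem_conjRightSub]
  constructor
  · intro h; simpa [mul_assoc] using X.mul_mem (X.mul_mem (X.inv_mem hx) h) hx
  · intro h; exact X.mul_mem (X.mul_mem hx h) (X.inv_mem hx)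

theorem eq_conjRightSub_iff {X Y : Subgroup G} {g : G} :
    Cfsg.subgroupConjRight g X = Y ↔ X = Cfsg.subgroupConjRight g⁻¹ Y := by
  constructor
  · rintro rfl; rw [conjRightSub_mul, mul_inv_cancel, conjRightSub_one]
  · rintro rfl; rw [conjRightSub_mul, inv_mul_cancel, conjRightSub_one]

theorem mem_normalizer_iff_conjRightSub {X : Subgroup G} {g : G} :
    g ∈ Subgroup.normalizer (X : Set G) ↔ Cfsg.subgroupConjRight g X = X := by
  rw [Subgroup.mem_normalizer_iff, SetLike.ext_iff]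
  refine forall_congr' fun y => ?_
  rw [mem_conjRightSub]
  exact ⟨fun h => h.symm, fun h => h.symm⟩

theorem conjRightSub_normalizer (g : G) (X : Subgroup G) :
    Cfsg.subgroupConjRight g (Subgroup.normalizer (X : Set G)) =
      Subgroup.normalizer ((Cfsg.subgroupConjRight g X : Subgroup G) : Set G) := by
  ext y
  rw [mem_conjRightSub, mem_normalizer_iff_conjRightSub, mem_normalizer_iff_conjRightSub,
    conjRightSub_mul]
  constructor
  · intro h
    conv_rhs => rw [← h]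
    rw [conjRightSub_mul]
    congr 1; group
  · intro h
    rw [← conjRightSub_mul (g * y), h, conjRightSub_mul, mul_inv_cancel, conjRightSub_one]

section sylow
variable {p : ℕ}

/-- Right conjugate of a Sylow subgroup. -/
def sylowConjRight (g : G) (S : Sylow p G) : Sylow p G := g⁻¹ • S

theorem coe_sylowConjRight (g : G) (S : Sylow p G) :
    (sylowConjRight g S : Subgroup G) = Cfsg.subgroupConjRight g (S : Subgroup G) := rfl

variable [Fact p.Prime] [Finite G]

theorem exists_sylowConjRight_eq (S T : Sylow p G) : ∃ g : G, sylowConjRight g T = S := by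
  obtain ⟨g, hg⟩ := MulAction.exists_smul_eq G T S
  exact ⟨g⁻¹, by rw [sylowConjRight, inv_inv, hg]⟩

/-- Criterion for membership in `𝓕(S)`. -/
theorem mem_sylowMembers_iff {𝓕 : Set (Subgroup G)} {S X : Subgroup G} :
    X ∈ Cfsg.sylowMembers p 𝓕 S ↔ X ∈ 𝓕 ∧ IsPGroup p ↥(S ⊓ X) ∧ ¬ p ∣ (S ⊓ X).relIndex X := by
  constructor
  · rintro ⟨hX, P, hP⟩
    refine ⟨hX, hP ▸ P.2.map _, ?_⟩
    rw [← hP, Subgroup.relIndex, Subgroup.subgroupOf,
      Subgroup.comap_map_eq_self_of_injective X.subtype_injective]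
    exact P.not_dvd_index
  · rintro ⟨hX, hp, hnd⟩
    have h' : IsPGroup p ↥((S ⊓ X).subgroupOf X) :=
      hp.comap_of_injective X.subtype X.subtype_injective
    have hnd' : ¬ p ∣ ((S ⊓ X).subgroupOf X).index := hnd
    refine ⟨hX, h'.toSylow hnd', ?_⟩
    rw [IsPGroup.toSylow_coe, Subgroup.map_subgroupOf_eq_of_le inf_le_right]

theorem conjRightSub_mem_sylowMembers {𝓕 : Set (Subgroup G)} (h𝓕 : Cfsg.IsNormalSet 𝓕)
    {S X : Subgroup G} (h : X ∈ Cfsg.sylowMembers p 𝓕 S) (g : G) :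
    Cfsg.subgroupConjRight g X ∈ Cfsg.sylowMembers p 𝓕 (Cfsg.subgroupConjRight g S) := by
  rw [mem_sylowMembers_iff] at h ⊢
  refine ⟨h𝓕 X h.1 g, ?_, ?_⟩
  · rw [← conjRightSub_inf]; exact h.2.1.map _
  · rw [← conjRightSub_inf]
    have : (Cfsg.subgroupConjRight g (S ⊓ X)).relIndex (Cfsg.subgroupConjRight g X) =
        (S ⊓ X).relIndex X :=
      Subgroup.relIndex_map_map_of_injective _ _ (MulAut.conj g⁻¹).injective
    rw [this]; exact h.2.2

/-- One step of a chain controlling Sylow intersections, with respect to `D`. -/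
def Link (p : ℕ) (𝓕 : Set (Subgroup G)) (D : Subgroup G) (S T : Sylow p G) : Prop :=
  ∃ (X : Subgroup G) (x : G), X ∈ Cfsg.sylowMembers p 𝓕 (S : Subgroup G) ∧
    X ∈ Cfsg.sylowMembers p 𝓕 (T : Subgroup G) ∧ x ∈ X ∧
    Cfsg.subgroupConjRight x (T : Subgroup G) = (S : Subgroup G) ∧ D ≤ (T : Subgroup G) ⊓ X

/-- Chains of links. -/
def Linked (p : ℕ) (𝓕 : Set (Subgroup G)) (D : Subgroup G) : Sylow p G → Sylow p G → Prop :=
  Relation.ReflTransGen (Link p 𝓕 D)

omit [Fact p.Prime] [Finite G] in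
theorem Linked.mono {𝓕 : Set (Subgroup G)} {D E : Subgroup G} (h : D ≤ E) {S T : Sylow p G}
    (hl : Linked p 𝓕 E S T) : Linked p 𝓕 D S T :=
  Relation.ReflTransGen.mono (fun _ _ ⟨X, x, h1, h2, h3, h4, h5⟩ => ⟨X, x, h1, h2, h3, h4, h.trans h5⟩) _ _ hl

theorem Linked.conj {𝓕 : Set (Subgroup G)} (h𝓕 : Cfsg.IsNormalSet 𝓕) (g : G) {D : Subgroup G}
    {S T : Sylow p G} (hl : Linked p 𝓕 D S T) :
    Linked p 𝓕 (Cfsg.subgroupConjRight g D) (sylowConjRight g S) (sylowConjRight g T) := by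
  induction hl with
  | refl => exact .refl
  | tail _ h2 ih =>
    obtain ⟨X, x, h1, h2, h3, h4, h5⟩ := h2
    refine ih.tail ⟨Cfsg.subgroupConjRight g X, g⁻¹ * x * g, conjRightSub_mem_sylowMembers h𝓕 h1 g,
      conjRightSub_mem_sylowMembers h𝓕 h2 g, ?_, ?_, ?_⟩
    · rw [mem_conjRightSub]; convert h3 using 1; group
    · rw [coe_sylowConjRight, coe_sylowConjRight, conjRightSub_mul, ← h4, conjRightSub_mul]
      congr 1; group
    · rw [coe_sylowConjRight, ← conjRightSub_inf]; exact conjRightSub_mono g h5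

omit [Fact p.Prime] [Finite G] in
/-- A chain as in the definition gives `Linked`. -/
theorem linked_of_chain {𝓕 : Set (Subgroup G)} {D : Subgroup G} {n : ℕ} (c : Fin (n + 1) → Sylow p G)
    (h : ∀ i : Fin n, Link p 𝓕 D (c i.castSucc) (c i.succ)) : Linked p 𝓕 D (c 0) (c (Fin.last n)) := by
  induction n with
  | zero => exact .refl
  | succ n ih =>
    have := ih (c ∘ Fin.castSucc) (fun i => by simpa using h i.castSucc)
    refine Relation.ReflTransGen.tail this ?_
    simpa [← Fin.succ_last] using h (Fin.last n)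

omit [Fact p.Prime] [Finite G] in
/-- `Linked` gives a chain as in the definition. -/
theorem exists_chain_of_linked {𝓕 : Set (Subgroup G)} {D : Subgroup G} {S T : Sylow p G}
    (hl : Linked p 𝓕 D S T) :
    ∃ (n : ℕ) (c : Fin (n + 1) → Sylow p G) (X : Fin n → Subgroup G) (x : Fin n → G),
      c 0 = S ∧ c (Fin.last n) = T ∧
      ∀ i : Fin n,
        X i ∈ Cfsg.sylowMembers p 𝓕 (c i.castSucc : Subgroup G) ∧
        X i ∈ Cfsg.sylowMembers p 𝓕 (c i.succ : Subgroup G) ∧
        x i ∈ X i ∧ Cfsg.subgroupConjRight (x i) (c i.succ : Subgroup G) = (c i.castSucc : Subgroup G) ∧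
        D ≤ (c i.succ : Subgroup G) ⊓ X i := by
  induction hl with
  | refl => exact ⟨0, fun _ => S, Fin.elim0, Fin.elim0, rfl, rfl, fun i => i.elim0⟩
  | @tail b d _ h2 ih =>
    obtain ⟨n, c, X, x, h0, hl, hc⟩ := ih
    obtain ⟨Y, y, hy⟩ := h2
    refine ⟨n + 1, Fin.snoc c d, Fin.snoc X Y, Fin.snoc x y, ?_, Fin.snoc_last _ _, fun i => ?_⟩
    · rw [← Fin.castSucc_zero, Fin.snoc_castSucc, h0]
    · refine Fin.lastCases ?_ (fun i => ?_) i
      · simp only [Fin.snoc_castSucc, Fin.snoc_last, hl, Fin.succ_last]; exact hy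
      · rw [Fin.succ_castSucc]
        simp only [Fin.snoc_castSucc]
        exact hc i

omit [Fact p.Prime] [Finite G] in
theorem controls_iff_linked {𝓕 : Set (Subgroup G)} :
    Cfsg.ControlsSylowIntersections p 𝓕 ↔
      ∀ S T : Sylow p G, S ≠ T → (S : Subgroup G) ⊓ (T : Subgroup G) ≠ ⊥ →
        Linked p 𝓕 ((S : Subgroup G) ⊓ (T : Subgroup G)) S T := by
  constructor
  · intro h S T hne hD
    obtain ⟨n, c, X, x, h0, hl, hc⟩ := h S T hne hD
    subst h0 hl
    exact linked_of_chain c fun i => ⟨X i, x i, hc i⟩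
  · intro h S T hne hD
    exact exists_chain_of_linked (h S T hne hD)

omit [Fact p.Prime] [Finite G] in
theorem Linked.of_controls {𝓕 : Set (Subgroup G)} (h : Cfsg.ControlsSylowIntersections p 𝓕)
    {S T : Sylow p G} {D : Subgroup G} (hD : D ≠ ⊥) (hS : D ≤ (S : Subgroup G))
    (hT : D ≤ (T : Subgroup G)) : Linked p 𝓕 D S T := by
  by_cases hne : S = T
  · subst hne; exact .refl
  · exact (controls_iff_linked.1 h S T hne fun h0 => hD (le_bot_iff.1 (h0 ▸ le_inf hS hT))).mono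
      (le_inf hS hT)

/-- Moving `S` inside a factorisation `G = G₁ G₂`. -/
theorem exists_sylow_le_inf_conj (S : Sylow p G) (G₁ G₂ : Subgroup G)
    (h1 : (S : Subgroup G) ≤ G₁) (h2 : (S : Subgroup G) ≤ G₂)
    (hfact : ∀ g : G, ∃ g₁ ∈ G₁, ∃ g₂ ∈ G₂, g = g₁ * g₂) (g : G) :
    ∃ U : Sylow p G, (S : Subgroup G) ⊓ Cfsg.subgroupConjRight g (S : Subgroup G) ≤ (U : Subgroup G) ∧
      (U : Subgroup G) ≤ G₁ ⊓ Cfsg.subgroupConjRight g G₂ := by
  obtain ⟨a, ha, b, hb, hab⟩ := hfact g⁻¹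
  have hg : g = b⁻¹ * a⁻¹ := by rw [← mul_inv_rev, ← hab, inv_inv]
  set H := G₁ ⊓ Cfsg.subgroupConjRight g G₂ with hH
  have hHS : (sylowConjRight a⁻¹ S : Subgroup G) ≤ H := by
    rw [coe_sylowConjRight]
    refine le_inf ((conjRightSub_mono _ h1).trans (conjRightSub_of_mem (G₁.inv_mem ha)).le) ?_
    rw [hg, ← conjRightSub_mul, conjRightSub_of_mem (G₂.inv_mem hb)]
    exact conjRightSub_mono _ h2
  have hD : (S : Subgroup G) ⊓ Cfsg.subgroupConjRight g (S : Subgroup G) ≤ H :=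
    inf_le_inf h1 (conjRightSub_mono _ h2)
  obtain ⟨P, hP⟩ := ((S.2.to_le (inf_le_left (b := Cfsg.subgroupConjRight g (S : Subgroup G)))
    ).comap_of_injective H.subtype H.subtype_injective).exists_le_sylow
  let Q : Sylow p H := Sylow.subtype (sylowConjRight a⁻¹ S) hHS
  obtain ⟨h, hh⟩ := MulAction.exists_smul_eq H Q P
  refine ⟨(h : G) • sylowConjRight a⁻¹ S, ?_, Sylow.smul_le hHS h⟩
  intro y hy
  have hyP : (⟨y, hD hy⟩ : H) ∈ (P : Subgroup H) := hP hy
  rw [← hh, Sylow.coe_subgroup_smul] at hyP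
  obtain ⟨q, hq, e⟩ := Subgroup.mem_map.1 hyP
  rw [Sylow.coe_subgroup_smul]
  exact Subgroup.mem_map.2 ⟨(q : G), hq, congrArg Subtype.val e⟩

end sylow

end CfsgLib.SylowControl
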