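import Cfsg.Agent.SylowControl.Basic

/-! The family of normalizers induced by a normalizer functor. -/

namespace CfsgLib.SylowControl

variable {G : Type*} [Group G] {p : ℕ}

theorem subgroupConjRight_eq_map (g : G) (X : Subgroup G) :
    Cfsg.subgroupConjRight g X = X.map (MulAut.conj g⁻¹).toMonoidHom := rfl

theorem functor_conj {f : Subgroup G → Set (Subgroup G)} (hf : Cfsg.IsNormalizerFunctor p f)
    {P F : Subgroup G} (hP : IsPGroup p P) (hF : F ∈ f P) (g : G) :
    Cfsg.subgroupConjRight g F ∈ f (Cfsg.subgroupConjRight g P) := by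
  rw [subgroupConjRight_eq_map g P, (hf P hP).2 g⁻¹]
  exact ⟨F, hF, rfl⟩

variable [Fact p.Prime] [Finite G]

theorem mem_functorFamily_top_iff {f : Subgroup G → Set (Subgroup G)} {X : Subgroup G} :
    X ∈ Cfsg.functorFamily p f ⊤ ↔
      ∃ P : Sylow p G, ∃ F ∈ f (P : Subgroup G), X = Subgroup.normalizer (F : Set G) := by
  constructor
  · rintro ⟨P, F, hF, rfl⟩
    have hsurj : Function.Surjective (⊤ : Subgroup G).subtype := fun a => ⟨⟨a, trivial⟩, rfl⟩
    refine ⟨P.mapSurjective hsurj, F, ?_, top_inf_eq _⟩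
    rwa [Sylow.coe_mapSurjective]
  · rintro ⟨P, F, hF, rfl⟩
    refine ⟨P.subtype le_top, F, ?_, (top_inf_eq _).symm⟩
    rwa [Sylow.coe_subtype, Subgroup.map_subgroupOf_eq_of_le le_top]

theorem isNormalSet_functorFamily_top {f : Subgroup G → Set (Subgroup G)}
    (hf : Cfsg.IsNormalizerFunctor p f) : Cfsg.IsNormalSet (Cfsg.functorFamily p f (⊤ : Subgroup G)) := by
  intro X hX g
  obtain ⟨P, F, hF, rfl⟩ := mem_functorFamily_top_iff.1 hX
  exact mem_functorFamily_top_iff.2
    ⟨sylowConjRight g P, Cfsg.subgroupConjRight g F, functor_conj hf P.2 hF g, conjRightSub_normalizer g F⟩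

/-- A subgroup of `M` meeting, in a Sylow subgroup, a group `X ≤ M` that contains a full Sylow subgroup of `M`
lies in `X`. -/
theorem le_of_sylow_inf {M X : Subgroup G} (P : Sylow p M) (hPX : (P : Subgroup M).map M.subtype ≤ X)
    (hXM : X ≤ M) (R : Sylow p M) {Q : Sylow p X}
    (hQ : (Q : Subgroup X).map X.subtype = (R : Subgroup M).map M.subtype ⊓ X) :
    (R : Subgroup M).map M.subtype ≤ X := by
  have hcard : Nat.card ↥((R : Subgroup M).map M.subtype) ≤
      Nat.card ↥((R : Subgroup M).map M.subtype ⊓ X : Subgroup G) := by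
    have hdvd := Q.pow_dvd_card_of_pow_dvd_card
      (n := (Nat.card M).factorization p) (dvd_trans (P.card_eq_multiplicity ▸
        (by rw [← Subgroup.card_map_of_injective M.subtype_injective]; exact Subgroup.card_dvd_of_le hPX :
          Nat.card (P : Subgroup M) ∣ Nat.card X)) dvd_rfl)
    rw [← hQ, Subgroup.card_map_of_injective X.subtype_injective,
      Subgroup.card_map_of_injective M.subtype_injective, R.card_eq_multiplicity]
    exact Nat.le_of_dvd Nat.card_pos hdvd
  exact inf_eq_left.1 (Subgroup.eq_of_le_of_card_ge inf_le_left hcard)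

/-- One step of a chain in `M`, read inside `G`. -/
def RegStep (f : Subgroup G → Set (Subgroup G)) (M : Subgroup G) (A B : Sylow p M) : Prop :=
  ∃ (P' : Sylow p M) (F : Subgroup G) (x : G),
    F ∈ f ((P' : Subgroup M).map M.subtype) ∧ x ∈ M ∧ x ∈ Subgroup.normalizer (F : Set G) ∧
    (A : Subgroup M).map M.subtype ≤ Subgroup.normalizer (F : Set G) ∧
    (B : Subgroup M).map M.subtype ≤ Subgroup.normalizer (F : Set G) ∧
    Cfsg.subgroupConjRight x ((B : Subgroup M).map M.subtype) = (A : Subgroup M).map M.subtype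

/-- A chain in `M`, read inside `G`, every member containing `D`. -/
theorem links_of_regular {f : Subgroup G → Set (Subgroup G)} (hf : Cfsg.IsNormalizerFunctor p f)
    {M : Subgroup G} (hr : Cfsg.IsFunctorRegular p f M) (P Q : Sylow p M) {D : Subgroup G} (hD : D ≠ ⊥)
    (hP : D ≤ (P : Subgroup M).map M.subtype) (hQ : D ≤ (Q : Subgroup M).map M.subtype) :
    Relation.ReflTransGen (fun A B : Sylow p M => RegStep f M A B ∧
      D ≤ (B : Subgroup M).map M.subtype) P Q := by
  have hDM : D ≤ M := hP.trans (Subgroup.map_subtype_le _)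
  have hl := Linked.of_controls hr (D := D.subgroupOf M) (S := P) (T := Q)
    (fun h => hD (by rw [← Subgroup.map_subgroupOf_eq_of_le hDM, h, Subgroup.map_bot]))
    (fun d hd => by
      obtain ⟨a, ha, e⟩ := hP hd
      exact (Subtype.ext e : a = d) ▸ ha)
    (fun d hd => by
      obtain ⟨a, ha, e⟩ := hQ hd
      exact (Subtype.ext e : a = d) ▸ ha)
  refine Relation.ReflTransGen.mono ?_ _ _ hl
  rintro A B ⟨X', x, hA, hB, hx, hc, hDX⟩
  obtain ⟨X, ⟨P', F, hF, rfl⟩, rfl⟩ := hA.1
  set X := M ⊓ Subgroup.normalizer (F : Set G) with hX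
  have hXM : X ≤ M := inf_le_left
  have hP'X : (P' : Subgroup M).map M.subtype ≤ X :=
    le_inf (Subgroup.map_subtype_le _)
      (Subgroup.le_normalizer.trans ((hf _ (P'.2.map _)).1 F hF).2)
  have key : ∀ C : Sylow p M, X.subgroupOf M ∈ Cfsg.sylowMembers p
      ((fun X : Subgroup G => X.subgroupOf M) '' Cfsg.functorFamily p f M) (C : Subgroup M) →
      (C : Subgroup M).map M.subtype ≤ X := by
    intro C hC
    obtain ⟨-, Z, hZ⟩ := hC
    let e : ↥(X.subgroupOf M) →* ↥X := (Subgroup.subgroupOfEquivOfLe hXM).toMonoidHom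
    have he : Function.Surjective e := (Subgroup.subgroupOfEquivOfLe hXM).surjective
    refine le_of_sylow_inf P' hP'X hXM C (Q := Z.mapSurjective he) ?_
    rw [Sylow.coe_mapSurjective, Subgroup.map_map]
    have : X.subtype.comp e = M.subtype.comp (X.subgroupOf M).subtype := rfl
    rw [this, ← Subgroup.map_map, hZ, Subgroup.map_inf _ _ _ M.subtype_injective,
      Subgroup.map_subgroupOf_eq_of_le hXM]
  refine ⟨⟨P', F, (x : G), hF, x.2, hx.2, (key A hA).trans inf_le_right, (key B hB).trans inf_le_right,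
    ?_⟩, ?_⟩
  · rw [← hc]
    ext y
    simp only [mem_conjRightSub, Subgroup.mem_map]
    constructor
    · rintro ⟨b, hb, e⟩
      refine ⟨x⁻¹ * b * x, ?_, ?_⟩
      · convert hb using 1; group
      · simp only [Subgroup.coe_subtype] at e ⊢
        simp [e, mul_assoc]
    · rintro ⟨b, hb, rfl⟩
      exact ⟨x * b * x⁻¹, hb, by simp⟩
  · intro d hd
    exact ⟨⟨d, hDM hd⟩, (hDX (show (⟨d, hDM hd⟩ : M) ∈ D.subgroupOf M from hd)).1, rfl⟩

end CfsgLib.SylowControl

namespace CfsgLib.SylowControl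

variable {G : Type*} [Group G] {p : ℕ} [Fact p.Prime] [Finite G]

/-- A Sylow subgroup inside `X` makes `X` a member. -/
theorem mem_sylowMembers_of_le {𝓕 : Set (Subgroup G)} {X : Subgroup G} (hX : X ∈ 𝓕) (S : Sylow p G)
    (h : (S : Subgroup G) ≤ X) : X ∈ Cfsg.sylowMembers p 𝓕 (S : Subgroup G) := by
  rw [mem_sylowMembers_iff, inf_eq_left.2 h]
  exact ⟨hX, S.2, fun hd => S.not_dvd_index (hd.trans (Subgroup.relIndex_dvd_index_of_le h))⟩

/-- A member of `f P` for a full Sylow subgroup `P` gives a link. -/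
theorem link_of_functor {f : Subgroup G → Set (Subgroup G)} {𝓕 : Set (Subgroup G)}
    (h𝓕 : Cfsg.functorFamily p f (⊤ : Subgroup G) ⊆ 𝓕) {D F : Subgroup G} {A B P : Sylow p G} {x : G}
    (hF : F ∈ f (P : Subgroup G)) (hx : x ∈ Subgroup.normalizer (F : Set G))
    (hA : (A : Subgroup G) ≤ Subgroup.normalizer (F : Set G))
    (hB : (B : Subgroup G) ≤ Subgroup.normalizer (F : Set G))
    (hc : Cfsg.subgroupConjRight x (B : Subgroup G) = (A : Subgroup G)) (hD : D ≤ (B : Subgroup G)) :
    Link p 𝓕 D A B :=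
  ⟨_, x, mem_sylowMembers_of_le (h𝓕 (mem_functorFamily_top_iff.2 ⟨P, F, hF, rfl⟩)) A hA,
    mem_sylowMembers_of_le (h𝓕 (mem_functorFamily_top_iff.2 ⟨P, F, hF, rfl⟩)) B hB, hx, hc,
    le_inf hD (hD.trans hB)⟩

/-- A Sylow subgroup of `M` extends to one of `G` meeting `M` in it. -/
theorem exists_sylow_inf_eq {M : Subgroup G} (A : Sylow p M) :
    ∃ R : Sylow p G, (R : Subgroup G) ⊓ M = (A : Subgroup M).map M.subtype := by
  obtain ⟨R, hR⟩ := (A.2.map M.subtype).exists_le_sylow
  refine ⟨R, le_antisymm ?_ (le_inf hR (Subgroup.map_subtype_le _))⟩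
  have h1 := A.3 ((R.2.comap_of_injective M.subtype M.subtype_injective : IsPGroup p _))
    (fun a ha => hR ⟨a, ha, rfl⟩)
  intro y hy
  exact ⟨⟨y, hy.2⟩, h1 ▸ (show (⟨y, hy.2⟩ : M) ∈ ((R : Subgroup G).comap M.subtype) from hy.1), rfl⟩

/-- Two Sylow subgroups of `G` inside a regular `M` are linked in `G`. -/
theorem linked_of_regular_of_le {f : Subgroup G → Set (Subgroup G)} (hf : Cfsg.IsNormalizerFunctor p f)
    {M : Subgroup G} (hr : Cfsg.IsFunctorRegular p f M) (U V : Sylow p G)
    (hU : (U : Subgroup G) ≤ M) (hV : (V : Subgroup G) ≤ M) {D : Subgroup G} (hD : D ≠ ⊥)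
    (hDU : D ≤ (U : Subgroup G)) (hDV : D ≤ (V : Subgroup G)) :
    Linked p (Cfsg.functorFamily p f (⊤ : Subgroup G)) D U V := by
  have hl := links_of_regular hf hr (U.subtype hU) (V.subtype hV) hD
    (by rwa [Sylow.coe_subtype, Subgroup.map_subgroupOf_eq_of_le hU])
    (by rwa [Sylow.coe_subtype, Subgroup.map_subgroupOf_eq_of_le hV])
  have hfull : ∀ A : Sylow p M, ∃ R : Sylow p G, (R : Subgroup G) = (A : Subgroup M).map M.subtype := by
    intro A
    obtain ⟨R, hR⟩ := exists_sylow_inf_eq A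
    refine ⟨R, ?_⟩
    rw [← hR, left_eq_inf]
    have h : Nat.card (A : Subgroup M) = Nat.card (U : Subgroup G) := by
      rw [Nat.card_congr (Sylow.equiv A (U.subtype hU)).toEquiv, Sylow.coe_subtype]
      exact Nat.card_congr (Subgroup.subgroupOfEquivOfLe hU).toEquiv
    have h2 : (R : Subgroup G) ⊓ M = R := by
      refine Subgroup.eq_of_le_of_card_ge inf_le_left ?_
      rw [hR, Subgroup.card_map_of_injective M.subtype_injective, h, U.card_eq_multiplicity,
        R.card_eq_multiplicity]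
    exact h2 ▸ inf_le_right
  have key : ∀ B : Sylow p M, Relation.ReflTransGen (fun A B : Sylow p M => RegStep f M A B ∧
      D ≤ (B : Subgroup M).map M.subtype) (U.subtype hU) B →
      ∀ R : Sylow p G, (R : Subgroup G) = (B : Subgroup M).map M.subtype →
      Linked p (Cfsg.functorFamily p f (⊤ : Subgroup G)) D U R := by
    intro B hB
    induction hB with
    | refl =>
      intro R hR
      rw [Sylow.coe_subtype, Subgroup.map_subgroupOf_eq_of_le hU] at hR
      rw [Sylow.ext hR]; exact .refl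
    | @tail b c _ h2 ih =>
      intro R hR
      obtain ⟨⟨P', F, x, hF, -, hx, hA, hB, hc⟩, hDc⟩ := h2
      obtain ⟨Rb, hRb⟩ := hfull b
      obtain ⟨P, hP⟩ := hfull P'
      refine (ih Rb hRb).tail (link_of_functor subset_rfl (hP ▸ hF) hx (hRb ▸ hA) (hR ▸ hB) ?_ (hR ▸ hDc))
      rw [hR, hRb, hc]
  exact key _ hl V (by rw [Sylow.coe_subtype, Subgroup.map_subgroupOf_eq_of_le hV])

end CfsgLib.SylowControl
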